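import Mathlib.CategoryTheory.Sites.Sheaf
import Mathlib.CategoryTheory.Sites.SheafOfTypes

/-!
# Sites in which every object is covered by its sections over a final object without proper covers

For such a site evaluation at the final object is an equivalence from sheaves of sets to sets.
-/

universe w v u

open CategoryTheory Opposite

namespace H18Site

variable {C : Type u} [Category.{v} C] (J : GrothendieckTopology C) (T : C)

/-- Every object is covered by its `T`-points, `T` is final, has only trivial covers, and distinct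
points do not meet. -/
structure IsPointLike : Prop where
  subsingleton_to : ∀ X : C, Subsingleton (X ⟶ T)
  cover : ∀ X : C, Sieve.ofArrows (fun _ : (T ⟶ X) => T) (fun v => v) ∈ J X
  disjoint : ∀ {X Z : C} (v w : T ⟶ X) (a : Z ⟶ T), a ≫ v = a ≫ w → v ≠ w → ⊥ ∈ J Z
  top_eq : ∀ S : Sieve T, S ∈ J T → S.arrows (𝟙 T)

variable {J T} (h : IsPointLike J T)

theorem section_map_comp (F : Cᵒᵖ ⥤ Type w) {X Y Z : C} (f : Y ⟶ X) (k : Z ⟶ Y)
    (p : F.obj (op X)) : F.map (k ≫ f).op p = F.map k.op (F.map f.op p) := by
  rw [op_comp, F.map_comp]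
  rfl

include h in
theorem bijective_restr (F : Sheaf J (Type w)) (X : C) :
    Function.Bijective fun (s : F.obj.obj (op X)) (v : T ⟶ X) => F.obj.map v.op s := by
  have hF := (isSheaf_iff_isSheaf_of_type _ _).1 F.property
  haveI := h.subsingleton_to
  refine ⟨fun s t hst => (hF.isSeparated _ (h.cover X)).ext ?_, fun c => ?_⟩
  · rintro Z f hf
    obtain ⟨v, a, rfl⟩ := (Sieve.mem_ofArrows_iff _ _ f).1 hf
    rw [section_map_comp, section_map_comp]
    exact congrArg _ (congrFun hst v)
  · have indep : ∀ {Z : C} (v w : T ⟶ X) (a b : Z ⟶ T), a ≫ v = b ≫ w →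
        F.obj.map a.op (c v) = F.obj.map b.op (c w) := by
      intro Z v w a b e
      obtain rfl : a = b := Subsingleton.elim _ _
      by_cases hvw : v = w
      · rw [hvw]
      · exact (hF.isSeparated _ (h.disjoint v w a e hvw)).ext fun _ _ hk => hk.elim
    choose v a ha using fun (Z : C) (f : Z ⟶ X)
      (hf : (Sieve.ofArrows (fun _ : (T ⟶ X) => T) (fun v => v)).arrows f) =>
        (Sieve.mem_ofArrows_iff _ _ f).1 hf
    let x : Presieve.FamilyOfElements F.obj (Sieve.ofArrows (fun _ : (T ⟶ X) => T) (fun v => v)).arrows :=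
      fun Z f hf => F.obj.map (a Z f hf).op (c (v Z f hf))
    have hx : x.SieveCompatible := fun Z W f k hf => by
      refine Eq.trans (indep _ _ _ (k ≫ a Z f hf) ?_) (section_map_comp F.obj _ _ _)
      rw [Category.assoc]
      exact (ha W _ _).symm.trans (congrArg (k ≫ ·) (ha Z f hf))
    obtain ⟨s, hs, -⟩ := hF _ (h.cover X) x ((Presieve.compatible_iff_sieveCompatible x).2 hx)
    refine ⟨s, funext fun v' => ?_⟩
    have hv' := Sieve.ofArrows_mk (fun _ : (T ⟶ X) => T) (fun v => v) v'
    refine (hs v' hv').trans ((indep (v T v' hv') v' (a T v' hv') (𝟙 T) ?_).trans ?_)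
    · rw [Category.id_comp]; exact (ha T v' hv').symm
    · rw [op_id, F.obj.map_id]; rfl

/-- The sheaf of `M`-valued functions on `T`-points. -/
def pointsSheaf (M : Type max v w) : Cᵒᵖ ⥤ Type max v w where
  obj X := (T ⟶ X.unop) → M
  map f := ↾(fun g v => g (v ≫ f.unop))
  map_id X := by ext g v; simp
  map_comp f g := by ext s v; simp

include h in
theorem isSheaf_pointsSheaf (M : Type max v w) :
    Presieve.IsSheaf J (pointsSheaf.{w} (T := T) M) := by
  intro X S hS x hx
  rw [Presieve.compatible_iff_sieveCompatible] at hx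
  have mem : ∀ v : T ⟶ X, S.arrows v := fun v => by
    simpa using h.top_eq _ (J.pullback_stable v hS)
  refine ⟨fun v => x v (mem v) (𝟙 T), fun Z f hf => ?_, fun y hy => ?_⟩
  · funext u
    change x (u ≫ f) (mem _) (𝟙 T) = x f hf u
    rw [hx f u hf]
    exact congrArg (x f hf) (Category.id_comp u)
  · funext v
    rw [← hy v (mem v)]
    exact congrArg y (Category.id_comp v).symm

include h in
theorem sections_isEquivalence :
    ((sheafSections J (Type max v w)).obj (op T)).IsEquivalence := by
  let Φ := (sheafSections J (Type max v w)).obj (op T)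
  haveI : Φ.Faithful := ⟨fun {F G} φ ψ e => Sheaf.hom_ext <| by
    ext X s
    refine (bijective_restr h G X.unop).1 (funext fun v => ?_)
    have e' := ConcreteCategory.congr_hom e (F.obj.map v.op s)
    exact ((NatTrans.naturality_apply φ.hom v.op s).symm.trans e').trans
      (NatTrans.naturality_apply ψ.hom v.op s)⟩
  haveI : Φ.Full := ⟨fun {F G} m => by
    let e := fun (X : Cᵒᵖ) => Equiv.ofBijective _ (bijective_restr h G X.unop)
    let m' : F.obj.obj (op T) → G.obj.obj (op T) := fun s => m s
    let η : F.obj ⟶ G.obj :=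
      { app := fun X => ↾(fun s => (e X).symm fun v => m' (F.obj.map v.op s))
        naturality := fun X Y f => by
          ext s
          refine (e Y).injective (funext fun v => ?_)
          change (e Y ((e Y).symm fun v => m' (F.obj.map v.op (F.obj.map f s)))) v =
            G.obj.map v.op (G.obj.map f ((e X).symm fun v => m' (F.obj.map v.op s)))
          rw [Equiv.apply_symm_apply]
          refine Eq.trans ?_ (section_map_comp G.obj f.unop v _)
          refine Eq.trans ?_ (congrFun ((e X).apply_symm_apply _) (v ≫ f.unop)).symm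
          exact congrArg m' (section_map_comp F.obj f.unop v s).symm }
    refine ⟨⟨η⟩, ?_⟩
    ext s
    change (e (op T)).symm (fun v => m' (F.obj.map v.op s)) = m' s
    refine (Equiv.symm_apply_eq _).2 (funext fun v => ?_)
    haveI := h.subsingleton_to T
    obtain rfl : v = 𝟙 T := Subsingleton.elim _ _
    change m' (F.obj.map (𝟙 T).op s) = G.obj.map (𝟙 T).op (m' s)
    rw [op_id, F.obj.map_id, G.obj.map_id]
    rfl⟩
  haveI : Φ.EssSurj := ⟨fun M => ⟨⟨pointsSheaf.{w} M,
      (isSheaf_iff_isSheaf_of_type _ _).2 (isSheaf_pointsSheaf h M)⟩, ⟨Equiv.toIso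
    { toFun := fun g => g (𝟙 T)
      invFun := fun m _ => m
      left_inv := fun g => funext fun v => by
        haveI := h.subsingleton_to T
        exact congrArg g (Subsingleton.elim _ _)
      right_inv := fun _ => rfl }⟩⟩⟩
  exact {}

end H18Site
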