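import Mathlib.CategoryTheory.Comma.Basic
import Mathlib.CategoryTheory.Adjunction.FullyFaithful
import Mathlib.CategoryTheory.Limits.Shapes.Pullback.IsPullback.Basic
import Mathlib.CategoryTheory.Limits.Shapes.ZeroMorphisms

/-!
# Recollement: objects of `A` are triples
-/

universe v₁ v₂ v₃ u₁ u₂ u₃

open CategoryTheory CategoryTheory.Limits

namespace H18Site.Recollement

variable {A : Type u₁} [Category.{v₁} A] {B : Type u₂} [Category.{v₂} B] {C : Type u₃}
  [Category.{v₃} C] [HasPullbacks A]
  {i' : A ⥤ B} {i_ : B ⥤ A} (adi : i' ⊣ i_) {j' : A ⥤ C} {j_ : C ⥤ A} (adj : j' ⊣ j_)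

/-- The functor to triples. -/
def triple : A ⥤ Comma (𝟭 B) (j_ ⋙ i') where
  obj F := { left := i'.obj F, right := j'.obj F, hom := i'.map (adj.unit.app F) }
  map {F G} φ :=
    { left := i'.map φ
      right := j'.map φ
      w := by
        dsimp
        rw [← Functor.map_comp, ← Functor.map_comp]
        exact congrArg i'.map (adj.unit.naturality φ) }
  map_id F := by ext <;> simp
  map_comp f g := by ext <;> simp

/-- The object glued from a triple. -/
noncomputable abbrev glue (T : Comma (𝟭 B) (j_ ⋙ i')) : A :=
  pullback (i_.map T.hom) (adi.unit.app (j_.obj T.right))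

/-- The canonical map to the glued triple. -/
noncomputable def canon (F : A) : F ⟶ glue adi ((triple adj).obj F) :=
  pullback.lift (adi.unit.app F) (adj.unit.app F) (adi.unit.naturality (adj.unit.app F)).symm

variable [PreservesLimitsOfShape WalkingCospan i'] [PreservesLimitsOfShape WalkingCospan j']
  (hci : ∀ G, IsIso (adi.counit.app G)) (hcj : ∀ H, IsIso (adj.counit.app H))
  (hz : ∀ {G G' : B} (f : G ⟶ G'), IsIso (j'.map (i_.map f)))

/-- The map recovering the component on the closed part. -/
noncomputable def toLeft (T : Comma (𝟭 B) (j_ ⋙ i')) : i'.obj (glue adi T) ⟶ T.left :=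
  i'.map (pullback.fst _ _) ≫ adi.counit.app T.left

/-- The map recovering the component on the open part. -/
noncomputable def toRight (T : Comma (𝟭 B) (j_ ⋙ i')) : j'.obj (glue adi T) ⟶ T.right :=
  j'.map (pullback.snd _ _) ≫ adj.counit.app T.right

include hci in
theorem isIso_toLeft (T : Comma (𝟭 B) (j_ ⋙ i')) : IsIso (toLeft adi T) := by
  haveI := hci
  haveI : IsIso (i'.map (adi.unit.app (j_.obj T.right))) :=
    IsIso.of_isIso_fac_right (adi.left_triangle_components _)
  have h := (IsPullback.of_hasPullback (i_.map T.hom) (adi.unit.app (j_.obj T.right))).map i'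
  haveI := h.isIso_fst_of_isIso
  unfold toLeft
  infer_instance

include hcj hz in
theorem isIso_toRight (T : Comma (𝟭 B) (j_ ⋙ i')) : IsIso (toRight adi adj T) := by
  haveI := hcj
  haveI : IsIso (j'.map (i_.map T.hom)) := hz _
  have h := (IsPullback.of_hasPullback (i_.map T.hom) (adi.unit.app (j_.obj T.right))).map j'
  haveI := h.isIso_snd_of_isIso
  unfold toRight
  infer_instance

omit [PreservesLimitsOfShape WalkingCospan i'] [PreservesLimitsOfShape WalkingCospan j'] in
theorem canon_toLeft (F : A) : i'.map (canon adi adj F) ≫ toLeft adi ((triple adj).obj F) = 𝟙 _ := by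
  rw [toLeft, ← Category.assoc, ← Functor.map_comp, canon, pullback.lift_fst]
  exact adi.left_triangle_components F

omit [PreservesLimitsOfShape WalkingCospan i'] [PreservesLimitsOfShape WalkingCospan j'] in
theorem canon_toRight (F : A) :
    j'.map (canon adi adj F) ≫ toRight adi adj ((triple adj).obj F) = 𝟙 _ := by
  rw [toRight, ← Category.assoc, ← Functor.map_comp, canon, pullback.lift_snd]
  exact adj.left_triangle_components F

omit [PreservesLimitsOfShape WalkingCospan i'] [PreservesLimitsOfShape WalkingCospan j'] in
theorem toLeft_hom (T : Comma (𝟭 B) (j_ ⋙ i')) :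
    toLeft adi T ≫ T.hom = i'.map (pullback.snd _ _) := by
  have h := congrArg (fun f => i'.map f ≫ adi.counit.app (i'.obj (j_.obj T.right)))
    (pullback.condition (f := i_.map T.hom) (g := adi.unit.app (j_.obj T.right)))
  have n := adi.counit.naturality T.hom
  simp only [Functor.comp_map, Functor.id_map] at n
  simp only [Functor.map_comp, Category.assoc, adi.left_triangle_components, Category.comp_id] at h
  rw [toLeft, Category.assoc]
  refine Eq.trans ?_ (h.trans ((congrArg (_ ≫ ·) (adi.left_triangle_components _)).trans (Category.comp_id _)))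
  exact congrArg (_ ≫ ·) n.symm

include hci hcj hz in
theorem isEquivalence_triple (hcons : ∀ {F F' : A} (f : F ⟶ F'), IsIso (i'.map f) →
    IsIso (j'.map f) → IsIso f) : (triple (i' := i') adj).IsEquivalence := by
  haveI := isIso_toLeft (j_ := j_) adi hci
  haveI := isIso_toRight adi adj hcj hz
  have hcan : ∀ F, IsIso (canon adi adj F) := fun F => by
    refine hcons _ ?_ ?_
    · haveI : IsIso (i'.map (canon adi adj F) ≫ toLeft adi ((triple adj).obj F)) := by
        rw [canon_toLeft]; exact IsIso.id _
      exact IsIso.of_isIso_comp_right _ (toLeft adi ((triple adj).obj F))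
    · haveI : IsIso (j'.map (canon adi adj F) ≫ toRight adi adj ((triple adj).obj F)) := by
        rw [canon_toRight]; exact IsIso.id _
      exact IsIso.of_isIso_comp_right _ (toRight adi adj ((triple adj).obj F))
  haveI : (triple (i' := i') adj).Faithful := ⟨fun {F F'} f g e => by
    haveI := hcan F'
    rw [← cancel_mono (canon adi adj F')]
    refine pullback.hom_ext ?_ ?_
    · rw [Category.assoc, Category.assoc, canon, pullback.lift_fst]
      have := congrArg (fun m => adi.unit.app F ≫ i_.map m.left) e
      exact ((adi.unit.naturality f).trans this).trans (adi.unit.naturality g).symm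
    · rw [Category.assoc, Category.assoc, canon, pullback.lift_snd]
      have := congrArg (fun m => adj.unit.app F ≫ j_.map m.right) e
      exact ((adj.unit.naturality f).trans this).trans (adj.unit.naturality g).symm⟩
  haveI : (triple (i' := i') adj).Full := ⟨fun {F F'} m => by
    haveI := hcan F'
    have w : (adi.unit.app F ≫ i_.map m.left) ≫ i_.map (i'.map (adj.unit.app F')) =
        (adj.unit.app F ≫ j_.map m.right) ≫ adi.unit.app _ := by
      refine (Category.assoc _ _ _).trans ?_
      refine (congrArg (_ ≫ ·) ((i_.map_comp _ _).symm.trans ((congrArg i_.map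
        (show m.left ≫ i'.map (adj.unit.app F') = i'.map (adj.unit.app F) ≫ i'.map (j_.map m.right)
          from m.w)).trans (i_.map_comp _ _)))).trans ?_
      refine ((adi.unit.naturality_assoc (adj.unit.app F) _).symm.trans
        (congrArg (_ ≫ ·) (adi.unit.naturality (j_.map m.right)).symm)).trans ?_
      exact (Category.assoc _ _ _).symm
    let ℓ : F ⟶ glue adi ((triple adj).obj F') :=
      pullback.lift (adi.unit.app F ≫ i_.map m.left) (adj.unit.app F ≫ j_.map m.right) w
    refine ⟨ℓ ≫ inv (canon adi adj F'), ?_⟩
    refine CommaMorphism.ext ?_ ?_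
    · change i'.map (ℓ ≫ inv (canon adi adj F')) = m.left
      rw [← cancel_mono (i'.map (canon adi adj F')), ← Functor.map_comp, Category.assoc,
        IsIso.inv_hom_id, Category.comp_id, ← cancel_mono (toLeft adi ((triple adj).obj F')),
        Category.assoc, canon_toLeft]
      erw [Category.comp_id]
      rw [toLeft, ← Category.assoc,
        ← Functor.map_comp]
      simp only [ℓ, pullback.lift_fst, Functor.map_comp, Category.assoc]
      have n := adi.counit.naturality m.left
      simp only [Functor.comp_map, Functor.id_map] at n
      refine (congrArg (_ ≫ ·) n).trans ?_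
      refine (Category.assoc _ _ _).symm.trans ?_
      exact (congrArg (· ≫ m.left) (adi.left_triangle_components F)).trans (Category.id_comp _)
    · change j'.map (ℓ ≫ inv (canon adi adj F')) = m.right
      rw [← cancel_mono (j'.map (canon adi adj F')), ← Functor.map_comp, Category.assoc,
        IsIso.inv_hom_id, Category.comp_id, ← cancel_mono (toRight adi adj ((triple adj).obj F')),
        Category.assoc, canon_toRight]
      erw [Category.comp_id]
      rw [toRight, ← Category.assoc,
        ← Functor.map_comp]
      simp only [ℓ, pullback.lift_snd, Functor.map_comp, Category.assoc]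
      have n := adj.counit.naturality m.right
      simp only [Functor.comp_map, Functor.id_map] at n
      refine (congrArg (_ ≫ ·) n).trans ?_
      refine (Category.assoc _ _ _).symm.trans ?_
      exact (congrArg (· ≫ m.right) (adj.left_triangle_components F)).trans (Category.id_comp _)⟩
  haveI : (triple (i' := i') adj).EssSurj := ⟨fun T => ⟨glue adi T,
    ⟨Comma.isoMk (@asIso _ _ _ _ (toLeft adi T) (isIso_toLeft adi hci T))
      (@asIso _ _ _ _ (toRight adi adj T) (isIso_toRight adi adj hcj hz T)) ?_⟩⟩⟩
  · exact {}
  · change toLeft adi T ≫ T.hom =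
      i'.map (adj.unit.app (glue adi T)) ≫ i'.map (j_.map (toRight adi adj T))
    rw [toLeft_hom, toRight]
    refine Eq.trans ?_ (i'.map_comp _ _)
    refine congrArg i'.map ?_
    have := adj.unit.naturality (pullback.snd (i_.map T.hom) (adi.unit.app (j_.obj T.right)))
    simp only [Functor.id_map, Functor.comp_map] at this
    rw [Functor.map_comp]
    refine Eq.trans ?_ (Category.assoc _ _ _)
    refine Eq.trans ?_ (congrArg (· ≫ j_.map (adj.counit.app T.right)) this)
    exact ((Category.assoc _ _ _).trans ((congrArg (_ ≫ ·) (adj.right_triangle_components T.right)).trans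
      (Category.comp_id _))).symm

end H18Site.Recollement
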